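import Cfsg.Agent.Lib.Helper74.O720.Defs

set_option autoImplicit false

/-! O720 farm (helper74), piece C1: the core argument, with the sibling pieces as hypotheses. -/

namespace Cfsg.Agent.Lib.Helper74.O720

theorem C1_core {G : Type*} [Group G] [Finite G] (h : Nat.card G = 720) (X : Subgroup G)
    (hX : Nat.card X = 3) (P1 P2 : Sylow 3 G) (h12 : P1 ≠ P2) (h1 : X ≤ (P1 : Subgroup G))
    (h2 : X ≤ (P2 : Subgroup G))
    (hP9 : ∀ P : Sylow 3 G, Nat.card (P : Subgroup G) = 9)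
    (hPc : ∀ P : Sylow 3 G, ∀ x ∈ (P : Subgroup G), ∀ y ∈ (P : Subgroup G), x * y = y * x)
    (hinv : ∀ t ∈ Nz (P1 : Subgroup G), t ∉ (P1 : Subgroup G) → ∀ u ∈ (P1 : Subgroup G),
      t * u * t⁻¹ = u⁻¹)
    (h5 : ¬ 5 ∣ Nat.card (Cz X)) (h8 : 8 ≤ (Cz X).index) : Nat.card (Cz X) = 36 := by
  have hle : ∀ P : Sylow 3 G, X ≤ (P : Subgroup G) → (P : Subgroup G) ≤ Cz X := by
    intro P hXP y hy
    rw [Subgroup.mem_centralizer_iff]
    intro x hx
    exact hPc P x (hXP hx) y hy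
  have hP1H := hle P1 h1
  have hP2H := hle P2 h2
  -- Sylow subgroups of `Cz X`
  let Q1 : Sylow 3 (Cz X) := P1.subtype hP1H
  let Q2 : Sylow 3 (Cz X) := P2.subtype hP2H
  have hQ1 : (Q1 : Subgroup (Cz X)) = (P1 : Subgroup G).subgroupOf (Cz X) := rfl
  have hQ2 : (Q2 : Subgroup (Cz X)) = (P2 : Subgroup G).subgroupOf (Cz X) := rfl
  have hQ12 : Q1 ≠ Q2 := by
    intro hq
    apply h12
    apply Sylow.ext
    have h3 : (Q1 : Subgroup (Cz X)) = (Q2 : Subgroup (Cz X)) := by rw [hq]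
    rw [hQ1, hQ2] at h3
    have h4 := congrArg (Subgroup.map (Cz X).subtype) h3
    rw [Subgroup.subgroupOf_map_subtype, Subgroup.subgroupOf_map_subtype, inf_eq_left.2 hP1H,
      inf_eq_left.2 hP2H] at h4
    exact h4
  have hn1 : Nat.card (Sylow 3 (Cz X)) ≡ 1 [MOD 3] := card_sylow_modEq_one 3 (Cz X)
  have hn2 : 1 < Nat.card (Sylow 3 (Cz X)) := by
    rw [Finite.one_lt_card_iff_nontrivial]
    exact ⟨⟨Q1, Q2, hQ12⟩⟩
  -- `X` has an element `x ≠ 1` with `x ^ 3 = 1`
  have hXne : ∃ x ∈ X, x ≠ 1 := by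
    by_contra hcon
    push Not at hcon
    have : X = ⊥ := (Subgroup.eq_bot_iff_forall X).2 hcon
    rw [this, Subgroup.card_bot] at hX
    omega
  obtain ⟨x, hxX, hx1⟩ := hXne
  have hx3 : x ^ 3 = 1 := by
    have h3 : (⟨x, hxX⟩ : X) ^ Nat.card X = 1 := pow_card_eq_one'
    rw [hX] at h3
    exact congrArg Subtype.val h3
  -- the normalizer of `Q1`
  have hnorm : Subgroup.normalizer ((Q1 : Subgroup (Cz X)) : Set (Cz X)) = (Q1 : Subgroup (Cz X)) := by
    apply le_antisymm _ Subgroup.le_normalizer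
    intro y hy
    rw [hQ1, Subgroup.mem_subgroupOf]
    by_contra hyP
    have hyN : (y : G) ∈ Nz (P1 : Subgroup G) := by
      rw [Subgroup.mem_normalizer_iff]
      intro u
      rw [Subgroup.mem_normalizer_iff] at hy
      constructor
      · intro hu
        have h3 := (hy ⟨u, hP1H hu⟩).1 (by rw [hQ1, Subgroup.mem_subgroupOf]; exact hu)
        rw [hQ1, Subgroup.mem_subgroupOf] at h3
        exact h3
      · intro hu
        have huH : u ∈ Cz X := by
          have h4 : u = (y : G)⁻¹ * ((y : G) * u * (y : G)⁻¹) * (y : G) := by group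
          rw [h4]
          exact (Cz X).mul_mem ((Cz X).mul_mem ((Cz X).inv_mem y.2) (hP1H hu)) y.2
        have h3 := (hy ⟨u, huH⟩).2 (by rw [hQ1, Subgroup.mem_subgroupOf]; exact hu)
        rw [hQ1, Subgroup.mem_subgroupOf] at h3
        exact h3
    have h3 := hinv (y : G) hyN hyP x (h1 hxX)
    have h4 : x * (y : G) = (y : G) * x := (Subgroup.mem_centralizer_iff.1 y.2) x hxX
    rw [← h4, mul_assoc, mul_inv_cancel, mul_one] at h3
    -- `x = x⁻¹`
    apply hx1
    have h6 : x ^ 2 = 1 := by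
      rw [pow_two]
      nth_rewrite 1 [h3]
      exact inv_mul_cancel x
    calc x = x ^ 3 * (x ^ 2)⁻¹ := by group
      _ = 1 := by rw [hx3, h6]; simp
  have hn3 : Nat.card (Sylow 3 (Cz X)) = (Q1 : Subgroup (Cz X)).index := by
    rw [Sylow.card_eq_index_normalizer Q1]
    exact congrArg Subgroup.index hnorm
  have hQc : Nat.card (Q1 : Subgroup (Cz X)) = 9 := by
    rw [hQ1, ← hP9 P1]
    exact Nat.card_congr (Subgroup.subgroupOfEquivOfLe hP1H).toEquiv
  have hcard : 9 * Nat.card (Sylow 3 (Cz X)) = Nat.card (Cz X) := by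
    rw [hn3, ← hQc]
    exact Subgroup.card_mul_index _
  have hidx : Nat.card (Cz X) * (Cz X).index = 720 := by
    rw [← h]
    exact Subgroup.card_mul_index _
  generalize Nat.card (Sylow 3 (Cz X)) = n at *
  generalize (Cz X).index = i at *
  rw [← hcard] at hidx h5 ⊢
  have hni : n * i = 80 := by nlinarith
  have hn10 : n ≤ 10 := by nlinarith
  have hmod : n % 3 = 1 := hn1
  interval_cases n <;> omega

end Cfsg.Agent.Lib.Helper74.O720
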